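import Groth.Agent.Lib.EtSmLoc15.Post
import Mathlib.Combinatorics.Nullstellensatz
import Mathlib.RingTheory.TensorProduct.MvPolynomial
import Mathlib.FieldTheory.IsAlgClosed.AlgebraicClosure
import Mathlib.RingTheory.LocalRing.ResidueField.Ideal
import Mathlib.RingTheory.RootsOfUnity.PrimitiveRoots
import Mathlib.RingTheory.RootsOfUnity.AlgebraicallyClosed

/-!
A property étale local on the source and smooth local on the base that holds on a nonempty open part of the fibre
of an affine space over `X` holds near that point of `X`: translations by roots of unity fill the fibre.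
-/

set_option autoImplicit false

universe u

open AlgebraicGeometry CategoryTheory CategoryTheory.Limits TopologicalSpace

namespace Groth.Agent.EtSmLoc15

/-- A nonzero polynomial over an algebraically closed field is nonzero at some translate of a given point by roots
of unity of a large prime order. -/
theorem exists_translate {L : Type u} [Field L] [IsAlgClosed L] {d : ℕ} (F : MvPolynomial (Fin d) L) (hF : F ≠ 0)
    (c : Fin d → L) :
    ∃ (ℓ : ℕ) (ζ : L) (k : Fin d → ℕ), (ℓ : L) ≠ 0 ∧ ζ ^ ℓ = 1 ∧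
      MvPolynomial.eval (fun i => c i + ζ ^ k i) F ≠ 0 := by
  classical
  obtain ⟨ℓ, hℓ, hp⟩ := Nat.exists_infinite_primes (max F.totalDegree (ringChar L) + 1)
  have hne : (ℓ : L) ≠ 0 := by
    intro h0
    rcases (Nat.dvd_prime hp).1 ((ringChar.spec L ℓ).1 h0) with h1 | h1
    · exact CharP.ringChar_ne_one h1
    · omega
  haveI : NeZero (ℓ : L) := ⟨hne⟩
  haveI : NeZero ℓ := ⟨hp.ne_zero⟩
  obtain ⟨ζ, hζ⟩ := HasEnoughRootsOfUnity.exists_primitiveRoot L ℓ
  by_contra hall
  push Not at hall
  let T : Fin d → Finset L := fun i => (Finset.range ℓ).image (fun k => c i + ζ ^ k)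
  refine hF (MvPolynomial.eq_zero_of_eval_zero_at_prod_finset F T (fun i => ?_) fun x hx => ?_)
  · have hcard : (T i).card = ℓ := by
      rw [Finset.card_image_of_injOn, Finset.card_range]
      intro a ha b hb hab
      exact hζ.pow_inj (Finset.mem_range.1 ha) (Finset.mem_range.1 hb) (add_left_cancel hab)
    rw [hcard]
    have := MvPolynomial.degreeOf_le_totalDegree F i
    omega
  · have hx' : ∀ i, ∃ k, x i = c i + ζ ^ k := fun i => by
      obtain ⟨k, -, hk⟩ := Finset.mem_image.1 (hx i)
      exact ⟨k, hk.symm⟩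
    choose k hk using hx'
    rw [show x = fun i => c i + ζ ^ k i from funext hk]
    exact hall ℓ ζ k hne hζ.pow_eq_one

/-- The standard étale pair of the roots of unity of order `ℓ`. -/
noncomputable def rootsPair (R : Type u) [CommRing R] (ℓ : ℕ) : StandardEtalePair R :=
  if h : ℓ = 0 then
    { f := Polynomial.X
      monic_f := Polynomial.monic_X
      g := 1
      cond := ⟨1, 0, 0, by simp⟩ }
  else
    { f := Polynomial.X ^ ℓ - 1
      monic_f := Polynomial.monic_X_pow_sub_C (1 : R) h
      g := Polynomial.C (ℓ : R)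
      cond := ⟨Polynomial.X, -Polynomial.C (ℓ : R), 1, by
        obtain ⟨m, rfl⟩ := Nat.exists_eq_succ_of_ne_zero h
        rw [Polynomial.derivative_sub, Polynomial.derivative_X_pow, Polynomial.derivative_one, sub_zero,
          Nat.succ_sub_one, pow_succ]
        ring⟩ }

theorem hasMap_rootsPair {R L : Type u} [CommRing R] [Field L] [Algebra R L] {ℓ : ℕ} {ζ : L} (hℓ : (ℓ : L) ≠ 0)
    (hζ : ζ ^ ℓ = 1) : (rootsPair R ℓ).HasMap ζ := by
  have h : ℓ ≠ 0 := by rintro rfl; simp at hℓ
  simp only [rootsPair, h, dite_false, StandardEtalePair.HasMap, map_sub, map_pow, Polynomial.aeval_X, map_one,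
    hζ, sub_self, Polynomial.aeval_C, map_natCast, true_and]
  exact isUnit_iff_ne_zero.2 hℓ

section Affine

open MvPolynomial

variable {S : Scheme.{u}} {R B : Type u} [CommRing R] [CommRing B] (ψ : R →+* B) (d : ℕ)

/-- The affine space over a ring. -/
noncomputable abbrev aff (A : Type u) [CommRing A] : Scheme.{u} := Spec (.of (MvPolynomial (Fin d) A))

/-- Its structure map. -/
noncomputable abbrev affPr (A : Type u) [CommRing A] : aff d A ⟶ Spec (.of A) :=
  Spec.map (CommRingCat.ofHom MvPolynomial.C)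

/-- The map of affine spaces of a ring map. -/
noncomputable abbrev affMap {A A' : Type u} [CommRing A] [CommRing A'] (φ : A →+* A') : aff d A' ⟶ aff d A :=
  Spec.map (CommRingCat.ofHom (MvPolynomial.map φ))

theorem isPullback_affMap :
    IsPullback (affPr d B) (affMap d ψ) (Spec.map (CommRingCat.ofHom ψ)) (affPr d R) := by
  letI := ψ.toAlgebra
  letI : Algebra (MvPolynomial (Fin d) R) (MvPolynomial (Fin d) B) := MvPolynomial.algebraMvPolynomial
  exact isPullback_SpecMap_of_isPushout _ _ _ _
    (CommRingCat.isPushout_of_isPushout R B (MvPolynomial (Fin d) R) (MvPolynomial (Fin d) B))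

instance smooth_affPr (A : Type u) [CommRing A] : Smooth (affPr d A) := by
  refine (HasRingHomProperty.Spec_iff (P := @Smooth)).2 ?_
  change (algebraMap A (MvPolynomial (Fin d) A)).Smooth
  exact RingHom.smooth_algebraMap.2 ⟨inferInstance, inferInstance⟩

instance surjective_affPr (A : Type u) [CommRing A] : Surjective (affPr d A) := ⟨fun p => by
  refine ⟨(Spec.map (CommRingCat.ofHom (MvPolynomial.eval (0 : Fin d → A)))) p, ?_⟩
  rw [← Scheme.Hom.comp_apply, ← Spec.map_comp]
  have : CommRingCat.ofHom (MvPolynomial.C : A →+* MvPolynomial (Fin d) A) ≫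
      CommRingCat.ofHom (MvPolynomial.eval (0 : Fin d → A)) = 𝟙 _ :=
    CommRingCat.hom_ext (RingHom.ext fun a => MvPolynomial.eval_C a)
  rw [this, Spec.map_id]
  rfl⟩

variable {Q : ∀ {Y : Scheme.{u}} (_ : Y ⟶ S) {X : Scheme.{u}}, (X ⟶ Y) → Prop} (hQ : SchLocal Q)
  (s : Spec (.of R) ⟶ S)

/-- The points of the affine space over `B` near which the property holds. -/
def goodSet : Set (aff d B) :=
  {c | ∃ (Z : Scheme.{u}) (e : Z ⟶ aff d B), Etale e ∧ @Q _ (affPr d R ≫ s) _ (e ≫ affMap d ψ) ∧ c ∈ Set.range e}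

theorem isOpen_goodSet : IsOpen (goodSet ψ d s (Q := @Q)) := by
  refine isOpen_iff_forall_mem_open.2 fun c ⟨Z, e, he, hq, hc⟩ =>
    ⟨Set.range e, fun c' hc' => ⟨Z, e, he, hq, hc'⟩, e.isOpenMap.isOpen_range, hc⟩

include hQ in
theorem good_of_open (U : (aff d B).Opens) (hU : (U : Set (aff d B)) ⊆ goodSet ψ d s (Q := @Q)) :
    Q (affPr d R ≫ s) (U.ι ≫ affMap d ψ) := by
  choose Z e he hq hc using fun c : U => hU c.2
  refine (hQ.source _ _ (fun c : U => (e c ⁻¹ᵁ U).toScheme) (fun c => e c ∣_ U) (fun c => ?_) fun c => ⟨c, ?_⟩).2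
    fun c => ?_
  · haveI := he c
    infer_instance
  · obtain ⟨z, hz⟩ := hc c
    have hzU : z ∈ e c ⁻¹ᵁ U := by
      change e c z ∈ U
      rw [hz]
      exact c.2
    exact ⟨⟨z, hzU⟩, U.ι.isOpenEmbedding.injective (by
      rw [← Scheme.Hom.comp_apply, morphismRestrict_ι]
      exact hz)⟩
  · haveI := he c
    rw [← Category.assoc, morphismRestrict_ι, Category.assoc]
    exact hQ.precomp _ _ _ (hq c)

include hQ in
/-- The good set is a union of fibres over `Spec B`. -/
theorem mem_goodSet_of_fibre {w c : aff d B} (hw : w ∈ goodSet ψ d s (Q := @Q))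
    (h : affPr d B c = affPr d B w) : c ∈ goodSet ψ d s (Q := @Q) := by
  obtain ⟨_, ⟨F, rfl⟩, hwF, hF⟩ := PrimeSpectrum.isTopologicalBasis_basic_opens.exists_subset_of_mem_open
    hw (isOpen_goodSet ψ d s (Q := @Q))
  let jF : Spec (.of (Localization.Away F)) ⟶ aff d B :=
    Spec.map (CommRingCat.ofHom (algebraMap (MvPolynomial (Fin d) B) (Localization.Away F)))
  haveI : IsOpenImmersion jF := IsOpenImmersion.of_isLocalization F
  have hjF : Set.range jF = (PrimeSpectrum.basicOpen F : Set (PrimeSpectrum (MvPolynomial (Fin d) B))) :=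
    PrimeSpectrum.localization_away_comap_range (Localization.Away F) F
  have hQF : Q (affPr d R ≫ s) (jF ≫ affMap d ψ) := by
    rw [← IsOpenImmersion.lift_fac jF.opensRange.ι jF (by rw [Scheme.Opens.range_ι]; exact subset_rfl), Category.assoc]
    haveI : Etale (IsOpenImmersion.lift jF.opensRange.ι jF (by rw [Scheme.Opens.range_ι]; exact subset_rfl)) :=
      Etale.of_comp _ jF.opensRange.ι
    exact hQ.precomp _ _ _ (good_of_open ψ d hQ s jF.opensRange (hjF.subset.trans hF))
  -- the point
  let q : PrimeSpectrum (MvPolynomial (Fin d) B) := c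
  let L := AlgebraicClosure q.asIdeal.ResidueField
  let χ : MvPolynomial (Fin d) B →+* L :=
    (algebraMap q.asIdeal.ResidueField L).comp (algebraMap _ q.asIdeal.ResidueField)
  have hχ : RingHom.ker χ = q.asIdeal := by
    rw [← RingHom.comap_ker, (RingHom.injective_iff_ker_eq_bot _).1 (algebraMap q.asIdeal.ResidueField L).injective]
    exact Ideal.ker_algebraMap_residueField _
  let ψL : B →+* L := χ.comp MvPolynomial.C
  let cL : Fin d → L := fun i => χ (MvPolynomial.X i)
  have hFL : MvPolynomial.map ψL F ≠ 0 := by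
    intro h0
    refine hwF ?_
    have hmem : F ∈ ((w : PrimeSpectrum (MvPolynomial (Fin d) B)).asIdeal.comap MvPolynomial.C).map MvPolynomial.C := by
      refine MvPolynomial.mem_map_C_iff.2 fun m => ?_
      have hcoef : ψL (F.coeff m) = 0 := by
        rw [← MvPolynomial.coeff_map, h0, MvPolynomial.coeff_zero]
      have heq : q.asIdeal.comap MvPolynomial.C =
          (w : PrimeSpectrum (MvPolynomial (Fin d) B)).asIdeal.comap MvPolynomial.C :=
        congrArg PrimeSpectrum.asIdeal h
      rw [← heq, Ideal.mem_comap, ← hχ]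
      exact hcoef
    exact Ideal.map_comap_le hmem
  obtain ⟨ℓ, ζ, k, hℓ, hζ, heval⟩ := exists_translate _ hFL cL
  letI : Algebra R L := (ψL.comp ψ).toAlgebra
  let P := rootsPair R ℓ
  let ρ : P.Ring →ₐ[R] L := P.lift ζ (hasMap_rootsPair hℓ hζ)
  let a : Fin d → P.Ring := fun i => P.X ^ k i
  let al : R →+* P.Ring := algebraMap R P.Ring
  let π : aff d P.Ring ⟶ aff d R := affMap d al
  haveI : Etale (Spec.map (CommRingCat.ofHom al)) :=
    (HasRingHomProperty.Spec_iff (P := @Etale)).2 (RingHom.etale_algebraMap.2 inferInstance)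
  haveI hπ : Etale π := MorphismProperty.of_isPullback (isPullback_affMap al d) (inferInstance : Etale (Spec.map (CommRingCat.ofHom al)))
  let τ : MvPolynomial (Fin d) P.Ring ≃ₐ[P.Ring] MvPolynomial (Fin d) P.Ring :=
    AlgEquiv.ofAlgHom (MvPolynomial.aeval fun i => MvPolynomial.X i + MvPolynomial.C (a i))
      (MvPolynomial.aeval fun i => MvPolynomial.X i - MvPolynomial.C (a i))
      (MvPolynomial.algHom_ext fun i => by simp) (MvPolynomial.algHom_ext fun i => by simp)
  let τi := τ.toRingEquiv.toCommRingCatIso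
  let μ : aff d P.Ring ⟶ aff d R := Spec.map τi.hom ≫ π
  have hμe : Etale μ := inferInstance
  have hμpr : μ ≫ affPr d R = π ≫ affPr d R := by
    simp only [μ, π, Category.assoc, ← Spec.map_comp]
    refine congrArg Spec.map (CommRingCat.hom_ext (RingHom.ext fun r => ?_))
    change τ (MvPolynomial.map al (MvPolynomial.C r)) = MvPolynomial.map al (MvPolynomial.C r)
    simp [τ]
  have sqπ := IsPullback.of_hasPullback (affMap d ψ) π
  have sqA := isPullback_affMap ψ d
  let μX : pullback (affMap d ψ) π ⟶ aff d B :=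
    sqA.lift (pullback.fst _ _ ≫ affPr d B) (pullback.snd _ _ ≫ μ) (by
      rw [Category.assoc, sqA.w, ← Category.assoc, pullback.condition, Category.assoc, Category.assoc, hμpr])
  have sqμ : IsPullback μX (pullback.snd (affMap d ψ) π) (affMap d ψ) μ :=
    IsPullback.of_right (h₁₁ := μX)
      (by
        rw [show μX ≫ affPr d B = pullback.fst _ _ ≫ affPr d B from sqA.lift_fst _ _ _, hμpr]
        exact sqπ.paste_horiz sqA)
      (by simp [μX]) sqA
  haveI : Etale μX := MorphismProperty.of_isPullback sqμ.flip hμe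
  haveI : Etale (pullback.fst (affMap d ψ) π) := inferInstance
  have hbc := hQ.baseChange _ ((IsPullback.of_hasPullback jF μX).paste_vert sqμ) inferInstance hQF
  rw [← Category.assoc, hμpr, Category.assoc] at hbc
  have hgood := hQ.post _ _ π hbc
  rw [Category.assoc, ← pullback.condition, ← Category.assoc] at hgood
  refine ⟨_, pullback.snd jF μX ≫ pullback.fst (affMap d ψ) π, inferInstance, hgood, ?_⟩
  -- the test point
  let χ' : MvPolynomial (Fin d) P.Ring →+* L := MvPolynomial.eval₂Hom ρ.toRingHom cL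
  let pt : Spec (.of L) ⟶ pullback (affMap d ψ) π :=
    pullback.lift (Spec.map (CommRingCat.ofHom χ)) (Spec.map (CommRingCat.ofHom χ')) (by
      simp only [π, ← Spec.map_comp]
      refine congrArg Spec.map (CommRingCat.hom_ext (MvPolynomial.ringHom_ext (fun r => ?_) fun i => ?_))
      · change χ (MvPolynomial.map ψ (MvPolynomial.C r)) = χ' (MvPolynomial.map al (MvPolynomial.C r))
        simp only [χ', al, MvPolynomial.map_C, MvPolynomial.eval₂Hom_C]
        exact (ρ.commutes r).symm
      · change χ (MvPolynomial.map ψ (MvPolynomial.X i)) = χ' (MvPolynomial.map al (MvPolynomial.X i))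
        simp [χ', cL])
  let χb : MvPolynomial (Fin d) B →+* L := MvPolynomial.eval₂Hom ψL fun i => cL i + ζ ^ k i
  have hpt : pt ≫ μX = Spec.map (CommRingCat.ofHom χb) := by
    refine sqA.hom_ext ?_ ?_
    · rw [Category.assoc, sqA.lift_fst, pullback.lift_fst_assoc]
      simp only [← Spec.map_comp]
      refine congrArg Spec.map (CommRingCat.hom_ext (RingHom.ext fun b => ?_))
      change χ (MvPolynomial.C b) = χb (MvPolynomial.C b)
      simp [χb, ψL]
    · rw [Category.assoc, sqA.lift_snd, pullback.lift_snd_assoc]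
      simp only [μ, π, ← Spec.map_comp]
      refine congrArg Spec.map (CommRingCat.hom_ext (MvPolynomial.ringHom_ext (fun r => ?_) fun i => ?_))
      · change χ' (τ (MvPolynomial.map al (MvPolynomial.C r))) = χb (MvPolynomial.map ψ (MvPolynomial.C r))
        simp only [χ', χb, τ, al, MvPolynomial.map_C, AlgEquiv.ofAlgHom_apply, MvPolynomial.aeval_C,
          MvPolynomial.algebraMap_eq, MvPolynomial.eval₂Hom_C]
        exact ρ.commutes r
      · change χ' (τ (MvPolynomial.map al (MvPolynomial.X i))) = χb (MvPolynomial.map ψ (MvPolynomial.X i))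
        simp [χ', χb, τ, a, ρ]
  obtain ⟨z⟩ : Nonempty (Spec (.of L)) := ⟨(⟨⊥, Ideal.isPrime_bot⟩ : PrimeSpectrum L)⟩
  obtain ⟨y, hy⟩ : pt z ∈ Set.range (pullback.snd jF μX) := by
    rw [Scheme.Pullback.range_snd, Set.mem_preimage, ← Scheme.Hom.comp_apply, hpt, hjF]
    intro hmem
    have h1 : χb F ∈ (z : PrimeSpectrum L).asIdeal := hmem
    rw [(Ideal.eq_bot_or_top (z : PrimeSpectrum L).asIdeal).resolve_right
      (z : PrimeSpectrum L).isPrime.ne_top, Ideal.mem_bot] at h1
    refine heval ?_
    rw [← h1, MvPolynomial.eval_map]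
    rfl
  refine ⟨y, ?_⟩
  rw [Scheme.Hom.comp_apply, hy, ← Scheme.Hom.comp_apply, pullback.lift_fst]
  refine PrimeSpectrum.ext ?_
  change Ideal.comap χ (z : PrimeSpectrum L).asIdeal = q.asIdeal
  rw [(Ideal.eq_bot_or_top (z : PrimeSpectrum L).asIdeal).resolve_right
    (z : PrimeSpectrum L).isPrime.ne_top]
  exact hχ

include hQ in
/-- The property holds near a point over which it holds somewhere on the affine space. -/
theorem exists_open_of_good {Z : Scheme.{u}} (e : Z ⟶ aff d B) [Etale e]
    (h : Q (affPr d R ≫ s) (e ≫ affMap d ψ)) (z : Z) :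
    ∃ U : (Spec (.of B)).Opens, affPr d B (e z) ∈ U ∧ Q s (U.ι ≫ Spec.map (CommRingCat.ofHom ψ)) := by
  let U : (Spec (.of B)).Opens :=
    ⟨affPr d B '' goodSet ψ d s (Q := @Q), (affPr d B).isOpenMap _ (isOpen_goodSet ψ d s (Q := @Q))⟩
  refine ⟨U, ⟨e z, ⟨Z, e, inferInstance, h, z, rfl⟩, rfl⟩, ?_⟩
  have hsub : ((affPr d B ⁻¹ᵁ U : (aff d B).Opens) : Set (aff d B)) ⊆ goodSet ψ d s (Q := @Q) := by
    rintro c ⟨w, hw, hcw⟩
    exact mem_goodSet_of_fibre ψ d hQ s hw hcw.symm
  refine hQ.descend s ((isPullback_morphismRestrict (affPr d B) U).paste_vert (isPullback_affMap ψ d))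
    inferInstance inferInstance ?_
  exact good_of_open ψ d hQ s _ hsub

end Affine

end Groth.Agent.EtSmLoc15
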