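import Groth.Agent.Lib.EtSmLoc15.Sch
import Mathlib.AlgebraicGeometry.Restrict
import Mathlib.RingTheory.RingHom.FinitePresentation

/-!
Composition with étale morphisms of schemes.
-/

set_option autoImplicit false

universe u

open AlgebraicGeometry CategoryTheory CategoryTheory.Limits TopologicalSpace

namespace Groth.Agent.EtSmLoc15

/-- Standard étale charts of an étale morphism. -/
theorem exists_bounded_chart {V W : Scheme.{u}} (g : V ⟶ W) [Etale g] (v : V) :
    ∃ (A B : CommRingCat.{u}) (φ : A ⟶ B) (jV : Spec B ⟶ V) (jW : Spec A ⟶ W) (n : ℕ),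
      IsOpenImmersion jV ∧ IsOpenImmersion jW ∧ φ.hom.Etale ∧ HasBound n φ.hom ∧
      jV ≫ g = Spec.map φ ≫ jW ∧ v ∈ Set.range jV := by
  obtain ⟨W₀, hW, hw, -⟩ := exists_isAffineOpen_mem_and_subset (Opens.mem_top (g v))
  obtain ⟨V₀, hV, hv, e⟩ := exists_isAffineOpen_mem_and_subset (X := V) (x := v) (U := g ⁻¹ᵁ W₀) hw
  replace e : V₀ ≤ g ⁻¹ᵁ W₀ := e
  have het : (g.appLE W₀ V₀ e).hom.Etale :=
    HasRingHomProperty.appLE (P := @Etale) g inferInstance ⟨W₀, hW⟩ ⟨V₀, hV⟩ e
  algebraize [(g.appLE W₀ V₀ e).hom]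
  set q := hV.primeIdealOf ⟨v, hv⟩
  haveI := q.isPrime
  obtain ⟨b, hb, hst⟩ := Algebra.IsEtaleAt.exists_isStandardEtale (R := Γ(W, W₀)) q.asIdeal
  obtain ⟨n, hn⟩ := hasBound_of_isStandardEtale (A := Γ(W, W₀)) (B := Localization.Away b)
  let jb : Spec (.of (Localization.Away b)) ⟶ Spec Γ(V, V₀) :=
    Spec.map (CommRingCat.ofHom (algebraMap Γ(V, V₀) (Localization.Away b)))
  haveI : IsOpenImmersion jb := IsOpenImmersion.of_isLocalization b
  refine ⟨Γ(W, W₀), .of (Localization.Away b), CommRingCat.ofHom (algebraMap Γ(W, W₀) (Localization.Away b)),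
    jb ≫ hV.fromSpec, hW.fromSpec, n, inferInstance, inferInstance, RingHom.etale_algebraMap.2 inferInstance, hn,
    ?_, ?_⟩
  · rw [Category.assoc, ← hW.SpecMap_appLE_fromSpec g hV e, ← Category.assoc, ← Spec.map_comp]
    rfl
  · obtain ⟨z, hz⟩ : (q : Spec Γ(V, V₀)) ∈ Set.range jb := by
      change q ∈ Set.range (PrimeSpectrum.comap (algebraMap Γ(V, V₀) (Localization.Away b)))
      rw [PrimeSpectrum.localization_away_comap_range (Localization.Away b) b]
      exact hb
    exact ⟨z, by rw [Scheme.Hom.comp_apply, hz]; exact hV.fromSpec_primeIdealOf ⟨v, hv⟩⟩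

namespace SchLocal

variable {S : Scheme.{u}} {Q : ∀ {Y : Scheme.{u}} (_ : Y ⟶ S) {X : Scheme.{u}}, (X ⟶ Y) → Prop} (hQ : SchLocal Q)

include hQ

/-- The property is stable under composition with étale morphisms of schemes. -/
theorem post {X V W : Scheme.{u}} (s : W ⟶ S) (f : X ⟶ V) (g : V ⟶ W) [Etale g] (h : Q (g ≫ s) f) :
    Q s (f ≫ g) := by
  choose A B φ jV jW n hjV hjW hφ hn hw hmem using fun x : X => exists_bounded_chart g (f x)
  refine (hQ.source s _ (fun x : X => pullback f (jV x)) (fun x => pullback.fst f (jV x))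
    (fun x => inferInstance) fun x => ⟨x, ?_⟩).2 fun x => ?_
  · rw [Scheme.Pullback.range_fst]
    exact hmem x
  · rw [← Category.assoc, pullback.condition, Category.assoc, hw x, ← Category.assoc]
    refine hQ.postOpen s _ (jW x) (hjW x) ?_
    refine hQ.post_affine (n x) (φ x) (hφ x) (hn x) _ _ ?_
    rw [← Category.assoc, ← hw x, Category.assoc]
    exact hQ.baseChange _ (IsPullback.of_hasPullback f (jV x)) inferInstance h

end SchLocal

end Groth.Agent.EtSmLoc15
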