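import Mathlib.AlgebraicGeometry.Morphisms.Smooth
import Mathlib.AlgebraicGeometry.Morphisms.Etale
import Mathlib.AlgebraicGeometry.Pullbacks
import Mathlib.AlgebraicGeometry.Morphisms.Flat
import Mathlib.AlgebraicGeometry.Morphisms.UniversallyOpen
import Mathlib.RingTheory.Etale.StandardEtale
import Mathlib.RingTheory.Unramified.Basic
import Mathlib.RingTheory.Unramified.LocalStructure

/-!
Properties of morphisms of schemes over a base that are étale local on the source and smooth local on the base:
stability under composition with étale morphisms.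
-/

set_option autoImplicit false

universe u

open AlgebraicGeometry CategoryTheory CategoryTheory.Limits TopologicalSpace
open scoped TensorProduct

namespace Groth.Agent.EtSmLoc15

variable {S : Scheme.{u}}

/-- A property of morphisms of `S`-schemes (given by a morphism and the structure map of its target) which is étale
local on the source, smooth local on the base and stable under composition with open immersions. -/
structure SchLocal (Q : ∀ {Y : Scheme.{u}} (_ : Y ⟶ S) {X : Scheme.{u}}, (X ⟶ Y) → Prop) : Prop where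
  source : ∀ {Y : Scheme.{u}} (s : Y ⟶ S) {X : Scheme.{u}} (f : X ⟶ Y) {ι : Type u} (Z : ι → Scheme.{u})
    (g : ∀ i, Z i ⟶ X), (∀ i, Etale (g i)) → (∀ x : X, ∃ i, x ∈ Set.range (g i)) →
    (Q s f ↔ ∀ i, Q s (g i ≫ f))
  baseChange : ∀ {Y Y' X X' : Scheme.{u}} (s : Y ⟶ S) {f : X ⟶ Y} {g : Y' ⟶ Y} {g' : X' ⟶ X} {f' : X' ⟶ Y'},
    IsPullback g' f' f g → Smooth g → Q s f → Q (g ≫ s) f'
  descend : ∀ {Y Y' X X' : Scheme.{u}} (s : Y ⟶ S) {f : X ⟶ Y} {g : Y' ⟶ Y} {g' : X' ⟶ X} {f' : X' ⟶ Y'},
    IsPullback g' f' f g → Smooth g → Surjective g → Q (g ≫ s) f' → Q s f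
  postOpen : ∀ {Y Z X : Scheme.{u}} (s : Z ⟶ S) (f : X ⟶ Y) (j : Y ⟶ Z), IsOpenImmersion j →
    Q (j ≫ s) f → Q s (f ≫ j)

namespace SchLocal

variable {Q : ∀ {Y : Scheme.{u}} (_ : Y ⟶ S) {X : Scheme.{u}}, (X ⟶ Y) → Prop} (hQ : SchLocal Q)

include hQ

/-- Precomposition with étale morphisms. -/
theorem precomp {Y X Z : Scheme.{u}} (s : Y ⟶ S) (g : Z ⟶ X) (f : X ⟶ Y) [Etale g] (h : Q s f) : Q s (g ≫ f) := by
  let F : PUnit.{u + 1} ⊕ PUnit.{u + 1} → Scheme.{u} := Sum.elim (fun _ => Z) fun _ => X
  let k : ∀ i, F i ⟶ X := fun i => match i with | .inl _ => g | .inr _ => 𝟙 X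
  exact (hQ.source s f F k (fun i => match i with
    | .inl _ => (inferInstance : Etale g)
    | .inr _ => (inferInstance : Etale (𝟙 X))) fun x => ⟨.inr ⟨⟩, x, rfl⟩).1 h (.inl ⟨⟩)

/-- An étale surjection detects the property. -/
theorem of_surjective {Y X Z : Scheme.{u}} (s : Y ⟶ S) (g : Z ⟶ X) (f : X ⟶ Y) [Etale g] [Surjective g]
    (h : Q s (g ≫ f)) : Q s f :=
  (hQ.source s f (fun _ : PUnit.{u + 1} => Z) (fun _ => g) (fun _ => inferInstance)
    fun x => ⟨⟨⟩, g.surjective x⟩).2 fun _ => h

end SchLocal

theorem isPullback_of_comp_mono {C : Type*} [Category C] {P X Y Z W : C} {a : P ⟶ X} {b : P ⟶ Y} {f : X ⟶ Z}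
    {g : Y ⟶ Z} (m : Z ⟶ W) [Mono m] (h : IsPullback a b (f ≫ m) (g ≫ m)) : IsPullback a b f g := by
  have w : a ≫ f = b ≫ g := (cancel_mono m).1 (by simpa only [Category.assoc] using h.w)
  refine ⟨⟨w⟩, ⟨PullbackCone.IsLimit.mk _ (fun c => h.lift c.fst c.snd (by rw [← Category.assoc, c.condition, Category.assoc]))
    (fun c => h.lift_fst _ _ _) (fun c => h.lift_snd _ _ _) fun c l h1 h2 => ?_⟩⟩
  exact h.hom_ext (by rw [h1, h.lift_fst]) (by rw [h2, h.lift_snd])

/-- Degree bound of an étale ring map: a generator satisfying a monic equation of degree at most `n`. -/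
def HasBound (n : ℕ) {A B : Type u} [CommRing A] [CommRing B] (φ : A →+* B) : Prop :=
  ∃ (θ : B) (f : Polynomial A), f.Monic ∧ f.natDegree ≤ n ∧ f.eval₂ φ θ = 0 ∧
    ∀ (K : Type u) [Field K] (ψ₁ ψ₂ : B →+* K), ψ₁.comp φ = ψ₂.comp φ → ψ₁ θ = ψ₂ θ → ψ₁ = ψ₂

theorem hasBound_of_isStandardEtale {A B : Type u} [CommRing A] [CommRing B] [Algebra A B]
    [Algebra.IsStandardEtale A B] : ∃ n, HasBound n (algebraMap A B) := by
  obtain ⟨P⟩ := Algebra.IsStandardEtale.nonempty_standardEtalePresentation (R := A) (S := B)
  refine ⟨_, P.x, P.f, P.monic_f, le_rfl, P.hasMap.1, fun K _ ψ₁ ψ₂ h hx => ?_⟩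
  letI := (ψ₁.comp (algebraMap A B)).toAlgebra
  exact congrArg AlgHom.toRingHom (P.hom_ext (f₁ := ({ ψ₁ with commutes' := fun _ => rfl } : B →ₐ[A] K))
    (f₂ := ({ ψ₂ with commutes' := fun r => (RingHom.congr_fun h r).symm } : B →ₐ[A] K)) hx)

/-- The idempotent of the diagonal of an étale algebra. -/
theorem exists_idempotent (A B : Type u) [CommRing A] [CommRing B] [Algebra A B] [Algebra.Etale A B] :
    ∃ e : B ⊗[A] B, IsIdempotentElem e ∧
      RingHom.ker (Algebra.TensorProduct.lmul' A (S := B)).toRingHom = Ideal.span {e} := by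
  obtain ⟨e, he, hsp⟩ : ∃ e, IsIdempotentElem e ∧ KaehlerDifferential.ideal A B = B ⊗[A] B ∙ e :=
    (Ideal.isIdempotentElem_iff_of_fg _ (KaehlerDifferential.ideal_fg A B)).mp <|
      (Ideal.cotangent_subsingleton_iff _).mp <| inferInstanceAs <| Subsingleton Ω[B⁄A]
  exact ⟨e, he, hsp⟩

namespace SchLocal

variable {Q : ∀ {Y : Scheme.{u}} (_ : Y ⟶ S) {X : Scheme.{u}}, (X ⟶ Y) → Prop} (hQ : SchLocal Q)

include hQ

/-- Composition with a bounded étale morphism of affine schemes. -/
theorem post_affine : ∀ (n : ℕ) {A B : CommRingCat.{u}} (φ : A ⟶ B), φ.hom.Etale → HasBound n φ.hom →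
    ∀ (s : Spec A ⟶ S) {X : Scheme.{u}} (f : X ⟶ Spec B),
      Q (Spec.map φ ≫ s) f → Q s (f ≫ Spec.map φ) := by
  intro n
  induction n with
  | zero =>
    intro A B φ _ ⟨θ, p, hp, hdeg, hroot, _⟩ s X f hf
    have h1 : p = 1 := hp.natDegree_eq_zero.1 (Nat.le_zero.1 hdeg)
    rw [h1, Polynomial.eval₂_one] at hroot
    haveI : Subsingleton B := subsingleton_of_zero_eq_one hroot.symm
    haveI : IsEmpty (Spec B) := (inferInstance : IsEmpty (PrimeSpectrum B))
    exact hQ.postOpen s f _ inferInstance hf
  | succ n ih =>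
    intro A B φ hφ ⟨θ, p, hp, hdeg, hroot, hdet⟩ s X f hf
    letI : Algebra A B := φ.hom.toAlgebra
    haveI : Algebra.Etale A B := hφ
    set h := Spec.map φ with hh
    haveI : Etale h := (HasRingHomProperty.Spec_iff (P := @Etale)).2 hφ
    -- the two projections
    let p₁ : B ⟶ CommRingCat.of (B ⊗[A] B) := CommRingCat.ofHom Algebra.TensorProduct.includeLeftRingHom
    let p₂ : B ⟶ CommRingCat.of (B ⊗[A] B) := CommRingCat.ofHom Algebra.TensorProduct.includeRight.toRingHom
    have sqT : IsPullback (Spec.map p₁) (Spec.map p₂) h h :=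
      isPullback_SpecMap_of_isPushout _ _ _ _ (CommRingCat.isPushout_tensorProduct A B B)
    have hp₁ : Etale (Spec.map p₁) := MorphismProperty.of_isPullback sqT.flip (inferInstance : Etale h)
    have hp₂ : Etale (Spec.map p₂) := MorphismProperty.of_isPullback sqT (inferInstance : Etale h)
    -- the image
    let W : (Spec A).Opens := ⟨Set.range h, h.isOpenMap.isOpen_range⟩
    let h₀ : Spec B ⟶ W := IsOpenImmersion.lift W.ι h (by rw [Scheme.Opens.range_ι]; rfl)
    have hh₀ : h₀ ≫ W.ι = h := IsOpenImmersion.lift_fac _ _ _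
    haveI : Etale (h₀ ≫ W.ι) := by rw [hh₀]; infer_instance
    haveI : Etale h₀ := Etale.of_comp h₀ W.ι
    haveI : Surjective h₀ := ⟨fun w => by
      obtain ⟨z, hz⟩ := w.2
      refine ⟨z, W.ι.isOpenEmbedding.injective ?_⟩
      rw [← Scheme.Hom.comp_apply, hh₀, hz]
      rfl⟩
    rw [← hh₀, ← Category.assoc]
    refine hQ.postOpen s _ W.ι inferInstance ?_
    have sqP := IsPullback.of_hasPullback f (Spec.map p₁)
    have sqh : IsPullback (pullback.fst f (Spec.map p₁)) (pullback.snd f (Spec.map p₁) ≫ Spec.map p₂) (f ≫ h) h :=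
      sqP.paste_vert sqT
    have sqW : IsPullback (pullback.fst f (Spec.map p₁)) (pullback.snd f (Spec.map p₁) ≫ Spec.map p₂) (f ≫ h₀) h₀ := by
      refine isPullback_of_comp_mono W.ι ?_
      rwa [Category.assoc, hh₀]
    refine hQ.descend _ sqW inferInstance inferInstance ?_
    have hpre : h₀ ≫ W.ι ≫ s = Spec.map φ ≫ s := by rw [← Category.assoc, hh₀]
    rw [hpre]
    have hsnd : Q (Spec.map p₁ ≫ Spec.map φ ≫ s) (pullback.snd f (Spec.map p₁)) :=
      hQ.baseChange _ sqP inferInstance hf
    obtain ⟨e, he, hker⟩ := exists_idempotent A B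
    let q : Bool → B ⊗[A] B := fun b => if b then e else 1 - e
    let loc : ∀ b, CommRingCat.of (B ⊗[A] B) ⟶ CommRingCat.of (Localization.Away (q b)) := fun b =>
      CommRingCat.ofHom (algebraMap _ _)
    haveI : ∀ b, IsOpenImmersion (Spec.map (loc b)) := fun b => by
      exact @IsOpenImmersion.of_isLocalization (B ⊗[A] B) (Localization.Away (q b)) _ _ _ (q b) Localization.isLocalization
    have sqB := fun b => IsPullback.of_hasPullback (pullback.snd f (Spec.map p₁)) (Spec.map (loc b))
    refine (hQ.source _ _ (fun b : ULift.{u} Bool =>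
      pullback (pullback.snd f (Spec.map p₁)) (Spec.map (loc b.down))) (fun b => pullback.fst _ _)
      (fun b => inferInstance) (fun x => ?_)).2 fun ⟨b⟩ => ?_
    · obtain ⟨b, hb⟩ : ∃ b, q b ∉ (pullback.snd f (Spec.map p₁) x : PrimeSpectrum (B ⊗[A] B)).asIdeal := by
        by_contra hall
        push Not at hall
        have h1 := add_mem (hall true) (hall false)
        simp only [q, if_true, Bool.false_eq_true, if_false, add_sub_cancel] at h1
        exact (pullback.snd f (Spec.map p₁) x : PrimeSpectrum (B ⊗[A] B)).isPrime.ne_top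
          ((Ideal.eq_top_iff_one _).2 h1)
      refine ⟨⟨b⟩, ?_⟩
      rw [Scheme.Pullback.range_fst]
      change pullback.snd f (Spec.map p₁) x ∈ Set.range (PrimeSpectrum.comap (algebraMap _ (Localization.Away (q b))))
      rw [@PrimeSpectrum.localization_away_comap_range (B ⊗[A] B) _ (Localization.Away (q b)) _ _ (q b) Localization.isLocalization]
      exact hb
    · rw [← Category.assoc, pullback.condition, Category.assoc, ← Spec.map_comp]
      have hsmooth : Smooth (Spec.map (loc b)) := inferInstance
      have hR := hQ.baseChange _ (sqB b) hsmooth hsnd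
      rw [← Category.assoc (Spec.map (loc b)), ← Spec.map_comp] at hR
      cases b with
      | false =>
        -- on the diagonal the two projections agree and are bijective
        let L := Localization.Away (q false)
        have hm : IsUnit ((Algebra.TensorProduct.lmul' A (S := B)).toRingHom (q false)) := by
          have : (Algebra.TensorProduct.lmul' A (S := B)).toRingHom e = 0 := by
            rw [← RingHom.mem_ker, hker]
            exact Ideal.mem_span_singleton_self e
          simp only [q, Bool.false_eq_true, if_false, map_sub, map_one, this, sub_zero, isUnit_one]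
        let m : L →+* B := IsLocalization.Away.lift (q false) hm
        have heq : p₂ ≫ loc false = p₁ ≫ loc false := by
          refine CommRingCat.hom_ext (RingHom.ext fun b => ?_)
          change algebraMap _ L ((1 : B) ⊗ₜ[A] b) = algebraMap _ L (b ⊗ₜ[A] (1 : B))
          rw [← sub_eq_zero, ← map_sub]
          have hmem : ((1 : B) ⊗ₜ[A] b - b ⊗ₜ[A] (1 : B) : B ⊗[A] B) ∈ Ideal.span {e} := by
            rw [← hker, RingHom.mem_ker]
            simp
          obtain ⟨c, hc⟩ := Ideal.mem_span_singleton'.1 hmem
          have he0 : algebraMap _ L e = 0 := by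
            have hu : IsUnit (algebraMap (B ⊗[A] B) L (q false)) := IsLocalization.Away.algebraMap_isUnit _
            refine (IsUnit.mul_left_eq_zero hu).1 ?_
            have h2 : e * q false = 0 := by simp [q, mul_sub, he.eq]
            rw [← map_mul, h2, map_zero]
          rw [← hc, map_mul, he0, mul_zero]
        haveI : IsIso (p₁ ≫ loc false) := by
          refine ⟨CommRingCat.ofHom m, ?_, ?_⟩
          · refine CommRingCat.hom_ext (RingHom.ext fun b => ?_)
            change m (algebraMap _ L (b ⊗ₜ[A] (1 : B))) = b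
            simp [m, L]
          · refine CommRingCat.hom_ext (IsLocalization.ringHom_ext (Submonoid.powers (q false)) (RingHom.ext fun z => ?_))
            change algebraMap _ L (m (algebraMap _ L z) ⊗ₜ[A] (1 : B)) = algebraMap _ L z
            induction z using TensorProduct.induction_on with
            | zero => simp
            | tmul a c =>
              rw [show m (algebraMap _ L (a ⊗ₜ[A] c)) = a * c by simp [m, L]]
              have := RingHom.congr_fun (congrArg CommRingCat.Hom.hom heq) c
              change algebraMap _ L ((1 : B) ⊗ₜ[A] c) = algebraMap _ L (c ⊗ₜ[A] (1 : B)) at this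
              rw [← mul_one a, ← one_mul c, ← Algebra.TensorProduct.tmul_mul_tmul, map_mul, this, ← map_mul]
              simp
            | add x y hx hy => simp only [map_add, TensorProduct.add_tmul, hx, hy]
        rw [heq]
        exact hQ.postOpen _ _ _ inferInstance hR
      | true =>
        let L := Localization.Away (q true)
        have hdiff : IsUnit (algebraMap (B ⊗[A] B) L (θ ⊗ₜ[A] (1 : B) - (1 : B) ⊗ₜ[A] θ)) := by
          by_contra hn
          obtain ⟨m, hm, hmem⟩ := exists_max_ideal_of_mem_nonunits hn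
          let ψ : B ⊗[A] B →+* L ⧸ m := (Ideal.Quotient.mk m).comp (algebraMap _ _)
          letI := Ideal.Quotient.field m
          have h12 : ψ.comp p₁.hom = ψ.comp p₂.hom := by
            refine hdet (L ⧸ m) _ _ ?_ ?_
            · refine RingHom.ext fun a => congrArg ψ ?_
              change (algebraMap A B a) ⊗ₜ[A] (1 : B) = (1 : B) ⊗ₜ[A] algebraMap A B a
              rw [← Algebra.TensorProduct.algebraMap_apply, Algebra.TensorProduct.algebraMap_apply']
            · change ψ (θ ⊗ₜ[A] (1 : B)) = ψ ((1 : B) ⊗ₜ[A] θ)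
              rw [← sub_eq_zero, ← map_sub]
              exact Ideal.Quotient.eq_zero_iff_mem.2 hmem
          have hzero : ψ e = 0 := by
            have hle : KaehlerDifferential.ideal A B ≤ RingHom.ker ψ := by
              rw [← KaehlerDifferential.span_range_eq_ideal, Ideal.span_le]
              rintro _ ⟨b, rfl⟩
              change ψ ((1 : B) ⊗ₜ[A] b - b ⊗ₜ[A] (1 : B)) = 0
              rw [map_sub, sub_eq_zero]
              exact (RingHom.congr_fun h12 b).symm
            refine hle ?_
            change e ∈ RingHom.ker (Algebra.TensorProduct.lmul' A (S := B)).toRingHom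
            rw [hker]
            exact Ideal.mem_span_singleton_self e
          have hu : IsUnit (ψ e) := (IsLocalization.Away.algebraMap_isUnit (S := L) (q true)).map (Ideal.Quotient.mk m)
          exact not_isUnit_zero (hzero ▸ hu)
        let φ₂ : B ⟶ CommRingCat.of L := p₂ ≫ loc true
        have hφ₂ : φ₂.hom.Etale := by
          refine (HasRingHomProperty.Spec_iff (P := @Etale)).1 ?_
          change Etale (Spec.map (p₂ ≫ loc true))
          rw [Spec.map_comp]
          infer_instance
        have hroot' : (p.map φ.hom).IsRoot θ := by rwa [Polynomial.IsRoot, Polynomial.eval_map]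
        let p' := (p.map φ.hom) /ₘ (Polynomial.X - Polynomial.C θ)
        have hfac : (Polynomial.X - Polynomial.C θ) * p' = p.map φ.hom :=
          Polynomial.mul_divByMonic_eq_iff_isRoot.2 hroot'
        have hp' : p'.Monic :=
          (Polynomial.monic_X_sub_C θ).of_mul_monic_left (hfac ▸ hp.map φ.hom)
        have hdeg' : p'.natDegree ≤ n := by
          rw [Polynomial.natDegree_divByMonic _ (Polynomial.monic_X_sub_C θ)]
          nontriviality B
          rw [Polynomial.natDegree_X_sub_C, hp.natDegree_map]
          omega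
        have hbound : HasBound n φ₂.hom := by
          refine ⟨algebraMap _ L (θ ⊗ₜ[A] (1 : B)), p', hp', hdeg', ?_, fun K _ ψ₁ ψ₂ h2 h1 => ?_⟩
          · have h0 : ((Polynomial.X - Polynomial.C θ) * p').eval₂ φ₂.hom (algebraMap _ L (θ ⊗ₜ[A] (1 : B))) = 0 := by
              rw [hfac, Polynomial.eval₂_map]
              have : φ₂.hom.comp φ.hom = ((p₁ ≫ loc true).hom).comp φ.hom := by
                refine RingHom.ext fun a => congrArg (algebraMap (B ⊗[A] B) L)
                  (?_ : (1 : B) ⊗ₜ[A] algebraMap A B a = (algebraMap A B a) ⊗ₜ[A] (1 : B))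
                change (1 : B) ⊗ₜ[A] algebraMap A B a = (algebraMap A B a) ⊗ₜ[A] (1 : B)
                rw [← Algebra.TensorProduct.algebraMap_apply, Algebra.TensorProduct.algebraMap_apply']
              rw [this]
              change p.eval₂ (RingHom.comp _ φ.hom) ((p₁ ≫ loc true).hom θ) = 0
              rw [← Polynomial.hom_eval₂, hroot, map_zero]
            rw [Polynomial.eval₂_mul, Polynomial.eval₂_sub, Polynomial.eval₂_X, Polynomial.eval₂_C,
              show φ₂.hom θ = algebraMap _ L ((1 : B) ⊗ₜ[A] θ) from rfl, ← map_sub] at h0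
            exact (IsUnit.mul_right_eq_zero hdiff).1 h0
          · have hz : ψ₁.comp (p₁ ≫ loc true).hom = ψ₂.comp (p₁ ≫ loc true).hom := by
              refine hdet K _ _ ?_ h1
              refine RingHom.ext fun a => ?_
              have := RingHom.congr_fun h2 (algebraMap A B a)
              change ψ₁ (algebraMap _ L ((algebraMap A B a) ⊗ₜ[A] (1 : B))) = ψ₂ (algebraMap _ L ((algebraMap A B a) ⊗ₜ[A] (1 : B)))
              rw [← Algebra.TensorProduct.algebraMap_apply, Algebra.TensorProduct.algebraMap_apply']
              exact this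
            refine IsLocalization.ringHom_ext (Submonoid.powers (q true)) (RingHom.ext fun z => ?_)
            induction z using TensorProduct.induction_on with
            | zero => simp
            | tmul a c =>
              rw [← mul_one a, ← one_mul c, ← Algebra.TensorProduct.tmul_mul_tmul, map_mul, map_mul]
              exact congrArg₂ (· * ·) (RingHom.congr_fun hz a) (RingHom.congr_fun h2 c)
            | add x y hx hy => simp only [map_add, hx, hy]
        refine ih φ₂ hφ₂ hbound (Spec.map φ ≫ s) _ ?_
        have hs : Spec.map φ₂ ≫ Spec.map φ ≫ s = Spec.map (p₁ ≫ loc true) ≫ Spec.map φ ≫ s := by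
          rw [← Category.assoc, ← Category.assoc]
          congr 1
          rw [Spec.map_comp, Spec.map_comp, Category.assoc, Category.assoc]
          exact congrArg _ sqT.w.symm
        rw [hs]
        exact hR

end SchLocal

end Groth.Agent.EtSmLoc15
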