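import Groth.Agent.Lib.EtSmLoc15.Affine
import Mathlib.AlgebraicGeometry.PullbackCarrier
import Mathlib.RingTheory.RingHom.StandardSmooth

/-!
Descending along a smooth morphism of schemes a property that holds on an étale neighbourhood of one point.
-/

set_option autoImplicit false

universe u

open AlgebraicGeometry CategoryTheory CategoryTheory.Limits TopologicalSpace

namespace Groth.Agent.EtSmLoc15

variable {S : Scheme.{u}} {Q : ∀ {Y : Scheme.{u}} (_ : Y ⟶ S) {X : Scheme.{u}}, (X ⟶ Y) → Prop} (hQ : SchLocal Q)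

include hQ in
/-- If the property holds at a point after a smooth base change and an étale map to it, it holds near the image. -/
theorem exists_open_of_chart {X Y V T U : Scheme.{u}} (s : Y ⟶ S) (f : X ⟶ Y) (h : V ⟶ Y) [Smooth h]
    (p : T ⟶ X) (q : T ⟶ V) (sq : IsPullback p q f h) (e : U ⟶ T) [Etale e] (hq : Q (h ≫ s) (e ≫ q)) (u : U) :
    ∃ X₁ : X.Opens, p (e u) ∈ X₁ ∧ Q s (X₁.ι ≫ f) := by
  -- coordinates on the smooth morphism
  obtain ⟨Y₀, hY, V₀, hV, hv, eV, hstd⟩ := Smooth.exists_isStandardSmooth h (q (e u))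
  obtain ⟨d, g, hg, hget⟩ := hstd.exists_etale_mvPolynomial
  have hfp : f (p (e u)) ∈ Y₀ := by
    rw [← Scheme.Hom.comp_apply, sq.w, Scheme.Hom.comp_apply]
    exact eV hv
  obtain ⟨X₀, hX, hx, eX⟩ := exists_isAffineOpen_mem_and_subset (X := X) (x := p (e u)) (U := f ⁻¹ᵁ Y₀) hfp
  replace eX : X₀ ≤ f ⁻¹ᵁ Y₀ := eX
  let ψ := (f.appLE Y₀ X₀ eX).hom
  let sY : Spec Γ(Y, Y₀) ⟶ S := hY.fromSpec ≫ s
  let iX := hX.fromSpec
  let iV := hV.fromSpec
  let iY := hY.fromSpec
  have hfX : Spec.map (CommRingCat.ofHom ψ) ≫ iY = iX ≫ f := hY.SpecMap_appLE_fromSpec f hX eX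
  let φ : Spec Γ(V, V₀) ⟶ aff d Γ(Y, Y₀) := Spec.map (CommRingCat.ofHom g)
  haveI : Etale φ := (HasRingHomProperty.Spec_iff (P := @Etale)).2 hget
  have hφ : φ ≫ affPr d Γ(Y, Y₀) ≫ iY = iV ≫ h := by
    rw [← Category.assoc, ← Spec.map_comp, ← hY.SpecMap_appLE_fromSpec h hV eV]
    exact congrArg (fun r => Spec.map (CommRingCat.ofHom r) ≫ iY) hg
  -- the fibre product over the affine pieces
  let T₀ := pullback (iX ≫ f) (iV ≫ h)
  let j : T₀ ⟶ T := pullback.map (iX ≫ f) (iV ≫ h) f h iX iV (𝟙 Y) (Category.comp_id _) (Category.comp_id _) ≫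
    sq.isoPullback.inv
  haveI : IsOpenImmersion (pullback.map (iX ≫ f) (iV ≫ h) f h iX iV (𝟙 Y) (Category.comp_id _) (Category.comp_id _)) :=
    inferInstance
  haveI : IsOpenImmersion j := inferInstance
  have hjp : j ≫ p = pullback.fst _ _ ≫ iX := by
    simp only [j, Category.assoc, IsPullback.isoPullback_inv_fst, pullback.map, pullback.lift_fst]
  have hjq : j ≫ q = pullback.snd _ _ ≫ iV := by
    simp only [j, Category.assoc, IsPullback.isoPullback_inv_snd, pullback.map, pullback.lift_snd]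
  have hmem : e u ∈ Set.range j := by
    have h1 : sq.isoPullback.hom (e u) ∈ Set.range
        (pullback.map (iX ≫ f) (iV ≫ h) f h iX iV (𝟙 Y) (Category.comp_id _) (Category.comp_id _)) := by
      rw [Scheme.Pullback.range_map]
      constructor
      · rw [Set.mem_preimage, ← Scheme.Hom.comp_apply, sq.isoPullback_hom_fst, hX.range_fromSpec]
        exact hx
      · rw [Set.mem_preimage, ← Scheme.Hom.comp_apply, sq.isoPullback_hom_snd, hV.range_fromSpec]
        exact hv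
    obtain ⟨z, hz⟩ := h1
    refine ⟨z, ?_⟩
    simp only [j, Scheme.Hom.comp_apply, hz]
    rw [← Scheme.Hom.comp_apply, Iso.hom_inv_id]
    rfl
  let e₀ : pullback e j ⟶ T₀ := pullback.snd e j
  obtain ⟨u₀, hu₀⟩ : u ∈ Set.range (pullback.fst e j) := by
    rw [Scheme.Pullback.range_fst]
    exact hmem
  -- the property over the affine space
  have hU₀ : Q ((iV ≫ h) ≫ s) (e₀ ≫ pullback.snd _ _) := by
    have h1 := hQ.precomp _ (pullback.fst e j) _ hq
    rw [← Category.assoc, pullback.condition, Category.assoc, hjq, ← Category.assoc] at h1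
    rw [Category.assoc]
    exact hQ.baseChange _ (f' := e₀ ≫ pullback.snd _ _) (g' := 𝟙 _)
      (IsPullback.of_horiz_isIso_mono ⟨by rw [Category.id_comp, Category.assoc]⟩) inferInstance h1
  have sqA := isPullback_affMap ψ d
  have sqY : IsPullback (pullback.fst (iX ≫ f) (iV ≫ h)) (pullback.snd (iX ≫ f) (iV ≫ h))
      (Spec.map (CommRingCat.ofHom ψ)) (φ ≫ affPr d Γ(Y, Y₀)) :=
    isPullback_of_comp_mono iY (by
      rw [hfX, Category.assoc, hφ]
      exact IsPullback.of_hasPullback _ _)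
  let m : T₀ ⟶ aff d Γ(X, X₀) := sqA.lift (pullback.fst _ _) (pullback.snd _ _ ≫ φ) (by
    rw [Category.assoc]; exact sqY.w)
  have sqm : IsPullback m (pullback.snd (iX ≫ f) (iV ≫ h)) (affMap d ψ) φ :=
    IsPullback.of_right (h₁₁ := m) (by simpa [m] using sqY) (by simp [m]) sqA
  haveI : Etale m := MorphismProperty.of_isPullback sqm.flip (inferInstance : Etale φ)
  have hgood : Q (affPr d Γ(Y, Y₀) ≫ sY) ((e₀ ≫ m) ≫ affMap d ψ) := by
    rw [Category.assoc, sqm.w, ← Category.assoc]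
    refine hQ.post (affPr d Γ(Y, Y₀) ≫ sY) (e₀ ≫ pullback.snd _ _) φ ?_
    rw [show φ ≫ affPr d Γ(Y, Y₀) ≫ sY = (iV ≫ h) ≫ s by
      rw [← hφ]
      simp only [sY, iY, Category.assoc]]
    exact hU₀
  obtain ⟨U₁, hU₁, hQ₁⟩ := exists_open_of_good ψ d hQ sY (e₀ ≫ m) hgood u₀
  refine ⟨iX ''ᵁ U₁, ?_, ?_⟩
  · have heq : ((e₀ ≫ m) ≫ affPr d Γ(X, X₀)) ≫ iX = (pullback.fst e j ≫ e) ≫ p := by
      rw [pullback.condition, Category.assoc, Category.assoc, Category.assoc, hjp, ← Category.assoc m,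
        show m ≫ affPr d Γ(X, X₀) = pullback.fst _ _ from sqA.lift_fst _ _ _]
    rw [← hu₀, ← Scheme.Hom.comp_apply (pullback.fst e j) e, ← Scheme.Hom.comp_apply, ← heq,
      Scheme.Hom.comp_apply _ iX]
    exact ⟨_, hU₁, rfl⟩
  · refine hQ.of_surjective s (iX.isoImage U₁).hom _ ?_
    rw [← Category.assoc, Scheme.Hom.isoImage_hom_ι, Category.assoc, ← hfX, ← Category.assoc]
    exact hQ.postOpen s _ iY inferInstance hQ₁

end Groth.Agent.EtSmLoc15
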