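import Groth.Agent.Lib.EtSmLoc15.Slice
import Groth.Agent.Lib.AlgSpDescent.LocalST
import Groth.Agent.Lib.AlgSpace.Chart
import Groth.Agent.Lib.AlgSpace.Points
import Groth.Agent.Lib.AlgSpDecent.Basic

/-!
A property of morphisms of algebraic spaces that is étale local on the source, smooth local on the base and stable
under composition with open immersions is étale-smooth local on source-and-target.
-/

set_option autoImplicit false

universe u

open CategoryTheory CategoryTheory.Limits AlgebraicGeometry AlgSp Opposite MorphismProperty TopologicalSpace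
open Groth.Agent.AlgSpace Groth.Agent.AlgSpDecent Groth.Agent.AlgSpDescent

namespace Groth.Agent.EtSmLoc15

variable {S : Scheme.{u}} {P : MorphismProperty (Sp S)}

/-- The property read on morphisms of schemes over `S`. -/
def SchQ (P : MorphismProperty (Sp S)) {Y : Scheme.{u}} (s : Y ⟶ S) {X : Scheme.{u}} (f : X ⟶ Y) : Prop :=
  P ((yon S).map (CategoryTheory.Over.homMk f rfl : CategoryTheory.Over.mk (f ≫ s) ⟶ CategoryTheory.Over.mk s))

theorem iff_schQ_aux {X Y : Scheme.{u}} (f : X ⟶ Y) (s : Y ⟶ S) (r : X ⟶ S) (hr : f ≫ s = r) :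
    P ((yon S).map (CategoryTheory.Over.homMk f hr : CategoryTheory.Over.mk r ⟶ CategoryTheory.Over.mk s)) ↔
      SchQ P s f := by
  subst hr
  rfl

theorem iff_schQ {A B : CategoryTheory.Over S} (k : A ⟶ B) : P ((yon S).map k) ↔ SchQ P B.hom k.left :=
  iff_schQ_aux k.left B.hom A.hom (CategoryTheory.Over.w k)

theorem locP_smooth_of_repWith {X Y : Sp S} (hY : IsAlgSpace Y) {f : X ⟶ Y} (hf : RepWith @Smooth f) :
    LocP @Smooth f := by
  have := etaleLocal_of_cases (P := @Smooth) (Or.inr (Or.inr (Or.inr (Or.inl rfl))))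
  exact locP_of_repWith hY hf

theorem locP_smooth_yon_map {U V : CategoryTheory.Over S} (g : U ⟶ V) (hg : Smooth g.left) :
    LocP @Smooth ((yon S).map g) :=
  locP_smooth_of_repWith (IsAlgSpace.yon_obj V) ((repWith_yon_map_iff _ _).2 hg)

theorem exists_ofScheme {T : CategoryTheory.Over S} (x : Points ((yon S).obj T)) : ∃ t, Points.ofScheme T t = x :=
  (Points.schemeEquiv T).surjective x

theorem map_yon_ofScheme {T T' : CategoryTheory.Over S} (φ : T ⟶ T') (t : T.left) :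
    Points.map ((yon S).map φ) (Points.ofScheme T t) = Points.ofScheme T' (φ.left t) := by
  rw [Points.map_ofPt, Category.id_comp, ofPt_map_eq]

/-- Hypotheses of the criterion. -/
structure LocalHyp (P : MorphismProperty (Sp S)) : Prop where
  source : IsLocalOnSource (IsEtCover (S := S)) P
  base : IsLocalOnBase (IsSmCover (S := S)) P
  postOpen : ∀ ⦃X Y Z : AlgSp.Space S⦄ (f : X ⟶ Y) (j : Y ⟶ Z), P f.hom → RepWith @IsOpenImmersion j.hom →
    P (f ≫ j).hom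

namespace LocalHyp

variable (hP : LocalHyp P)

include hP

theorem precomp {X Y Z : Sp S} (hX : IsAlgSpace X) (hY : IsAlgSpace Y) (hZ : IsAlgSpace Z) (f : X ⟶ Y)
    (g : Y ⟶ Z) (hf : IsEtaleMor f) (hg : P g) : P (f ≫ g) := by
  let F : PUnit.{u + 1} ⊕ PUnit.{u + 1} → Sp S := Sum.elim (fun _ => X) fun _ => Y
  let k : ∀ i, F i ⟶ Y := fun i => match i with | .inl _ => f | .inr _ => 𝟙 Y
  have hF : ∀ i, IsAlgSpace (F i) := fun i => match i with | .inl _ => hX | .inr _ => hY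
  have hk : IsEtCover F k := ⟨fun i => match i with
      | .inl _ => hf
      | .inr _ => isEtaleMor_of_locP_etale hY hY (locP_id hY),
    fun x => ⟨.inr ⟨⟩, x, Points.map_id x⟩⟩
  exact (hP.source F k hY hF hk g hZ).1 hg (.inl ⟨⟩)

theorem baseChange {X Y X' Y' : Sp S} (hX : IsAlgSpace X) (hY : IsAlgSpace Y) (hX' : IsAlgSpace X')
    (hY' : IsAlgSpace Y') {f : X ⟶ Y} {g : Y' ⟶ Y} {f' : X' ⟶ Y'} {g' : X' ⟶ X}
    (sq : IsPullback g' f' f g) (hg : LocP @Smooth g) (hf : P f) : P f' := by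
  let F : PUnit.{u + 1} ⊕ PUnit.{u + 1} → Sp S := Sum.elim (fun _ => Y') fun _ => Y
  let k : ∀ i, F i ⟶ Y := fun i => match i with | .inl _ => g | .inr _ => 𝟙 Y
  let G : PUnit.{u + 1} ⊕ PUnit.{u + 1} → Sp S := Sum.elim (fun _ => X') fun _ => X
  let p : ∀ i, G i ⟶ F i := fun i => match i with | .inl _ => f' | .inr _ => f
  let q : ∀ i, G i ⟶ X := fun i => match i with | .inl _ => g' | .inr _ => 𝟙 X
  have hF : ∀ i, IsAlgSpace (F i) := fun i => match i with | .inl _ => hY' | .inr _ => hY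
  have hG : ∀ i, IsAlgSpace (G i) := fun i => match i with | .inl _ => hX' | .inr _ => hX
  have hk : IsSmCover F k := ⟨fun i => match i with | .inl _ => hg | .inr _ => locP_id hY,
    fun x => ⟨.inr ⟨⟩, x, Points.map_id x⟩⟩
  have hsq : ∀ i, IsPullback (q i) (p i) f (k i) := fun i => match i with
    | .inl _ => sq
    | .inr _ => IsPullback.id_horiz f
  exact (hP.base F k hY hF hk f hX G p q hG hsq).1 hf (.inl ⟨⟩)

theorem descend {X Y X' Y' : Sp S} (hX : IsAlgSpace X) (hY : IsAlgSpace Y) (hX' : IsAlgSpace X')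
    (hY' : IsAlgSpace Y') {f : X ⟶ Y} {g : Y' ⟶ Y} {f' : X' ⟶ Y'} {g' : X' ⟶ X}
    (sq : IsPullback g' f' f g) (hg : LocP @Smooth g) (hs : Function.Surjective (Points.map g)) (hf : P f') :
    P f :=
  (hP.base (fun _ : PUnit.{u + 1} => Y') (fun _ => g) hY (fun _ => hY')
    ⟨fun _ => hg, fun x => ⟨⟨⟩, hs x⟩⟩ f hX (fun _ => X') (fun _ => f') (fun _ => g') (fun _ => hX')
    (fun _ => sq)).2 fun _ => hf

theorem postOpenSp {X Y Z : Sp S} (hX : IsAlgSpace X) (hY : IsAlgSpace Y) (hZ : IsAlgSpace Z) (f : X ⟶ Y)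
    (j : Y ⟶ Z) (hj : RepWith @IsOpenImmersion j) (hf : P f) : P (f ≫ j) :=
  hP.postOpen (X := ⟨X, hX⟩) (Y := ⟨Y, hY⟩) (Z := ⟨Z, hZ⟩) (ObjectProperty.homMk f) (ObjectProperty.homMk j) hf hj

/-- The property on schemes. -/
theorem schLocal : SchLocal (S := S) (fun {_} s {_} f => SchQ P s f) where
  source {Y} s {X} f {ι} Z g hg hsurj := by
    let gi : ∀ i, CategoryTheory.Over.mk (g i ≫ f ≫ s) ⟶ CategoryTheory.Over.mk (f ≫ s) := fun i =>
      CategoryTheory.Over.homMk (g i)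
    have hcov : IsEtCover (fun i => (yon S).obj (CategoryTheory.Over.mk (g i ≫ f ≫ s))) fun i => (yon S).map (gi i) :=
      ⟨fun i => (isEtaleMor_yon_map_iff _).2 (hg i), fun x => by
        obtain ⟨t, rfl⟩ := exists_ofScheme x
        obtain ⟨i, z, hz⟩ := hsurj t
        refine ⟨i, Points.ofScheme _ z, ?_⟩
        rw [map_yon_ofScheme]
        exact congrArg _ hz⟩
    refine (hP.source _ _ (IsAlgSpace.yon_obj _) (fun i => IsAlgSpace.yon_obj _) hcov
      ((yon S).map (CategoryTheory.Over.homMk f rfl : CategoryTheory.Over.mk (f ≫ s) ⟶ CategoryTheory.Over.mk s))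
      (IsAlgSpace.yon_obj _)).trans (forall_congr' fun i => ?_)
    rw [← Functor.map_comp, iff_schQ (P := P)]
    rfl
  baseChange {Y Y' X X'} s {f g g' f'} sq hg h := by
    let fO : CategoryTheory.Over.mk (f ≫ s) ⟶ CategoryTheory.Over.mk s := CategoryTheory.Over.homMk f rfl
    let gO : CategoryTheory.Over.mk (g ≫ s) ⟶ CategoryTheory.Over.mk s := CategoryTheory.Over.homMk g rfl
    let fO' : CategoryTheory.Over.mk (f' ≫ g ≫ s) ⟶ CategoryTheory.Over.mk (g ≫ s) :=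
      CategoryTheory.Over.homMk f' rfl
    let gO' : CategoryTheory.Over.mk (f' ≫ g ≫ s) ⟶ CategoryTheory.Over.mk (f ≫ s) :=
      CategoryTheory.Over.homMk g' (sq.w_assoc s)
    have sqO : IsPullback gO' fO' fO gO := IsPullback.of_map (CategoryTheory.Over.forget S)
      (CategoryTheory.Over.OverMorphism.ext sq.w) sq
    exact hP.baseChange (IsAlgSpace.yon_obj _) (IsAlgSpace.yon_obj _) (IsAlgSpace.yon_obj _)
      (IsAlgSpace.yon_obj _) (sqO.map (yon S)) (locP_smooth_yon_map gO hg) h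
  descend {Y Y' X X'} s {f g g' f'} sq hg hs h := by
    let fO : CategoryTheory.Over.mk (f ≫ s) ⟶ CategoryTheory.Over.mk s := CategoryTheory.Over.homMk f rfl
    let gO : CategoryTheory.Over.mk (g ≫ s) ⟶ CategoryTheory.Over.mk s := CategoryTheory.Over.homMk g rfl
    let fO' : CategoryTheory.Over.mk (f' ≫ g ≫ s) ⟶ CategoryTheory.Over.mk (g ≫ s) :=
      CategoryTheory.Over.homMk f' rfl
    let gO' : CategoryTheory.Over.mk (f' ≫ g ≫ s) ⟶ CategoryTheory.Over.mk (f ≫ s) :=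
      CategoryTheory.Over.homMk g' (sq.w_assoc s)
    have sqO : IsPullback gO' fO' fO gO := IsPullback.of_map (CategoryTheory.Over.forget S)
      (CategoryTheory.Over.OverMorphism.ext sq.w) sq
    refine hP.descend (IsAlgSpace.yon_obj _) (IsAlgSpace.yon_obj _) (IsAlgSpace.yon_obj _)
      (IsAlgSpace.yon_obj _) (sqO.map (yon S)) (locP_smooth_yon_map gO hg) ?_ h
    exact surjective_map_of_repWith ((repWith_yon_map_iff @Surjective gO).2 hs)
  postOpen {Y Z X} s f j hj h := by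
    have h1 := hP.postOpenSp (IsAlgSpace.yon_obj _) (IsAlgSpace.yon_obj _) (IsAlgSpace.yon_obj _) _
      ((yon S).map (CategoryTheory.Over.homMk j rfl : CategoryTheory.Over.mk (j ≫ s) ⟶ CategoryTheory.Over.mk s))
      ((repWith_yon_map_iff _ _).2 hj) h
    rw [← Functor.map_comp, iff_schQ (P := P)] at h1
    exact h1

/-- Composition with an étale chart of a space. -/
theorem chart_post {Y : Sp S} (hY : IsAlgSpace Y) {A B : CategoryTheory.Over S} (k : A ⟶ B)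
    (b : (yon S).obj B ⟶ Y) (hb : RepWith @Etale b) (h : P ((yon S).map k)) : P ((yon S).map k ≫ b) := by
  obtain ⟨b', hb', hbe, hbs⟩ := exists_atlas_openSub_image b hb (W := Set.range (Points.ofPt b)) rfl
  have hW : IsOpen (Set.range (Points.ofPt b)) := by
    rw [← Set.image_univ]
    exact isOpenMap_ofPt b hb _ isOpen_univ
  have hj := repWith_openSubι hW
  have hY₀ := isAlgSpace_of_representable hj.1 hY
  rw [← hb', ← Category.assoc]
  refine hP.postOpenSp (IsAlgSpace.yon_obj A) hY₀ hY _ _ hj ?_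
  have sqR := hbe.1.isPullback' b'
  have he₁ : Etale (hbe.1.fst' b').left := hbe.2 b' _ _ sqR.flip
  have he₂ : Etale (hbe.1.snd b').left := hbe.2 b' _ _ (hbe.1.isPullback b')
  have sqX := IsPullback.of_hasPullback k (hbe.1.fst' b')
  have h1 : P ((yon S).map (pullback.snd k (hbe.1.fst' b'))) :=
    hP.baseChange (IsAlgSpace.yon_obj _) (IsAlgSpace.yon_obj _) (IsAlgSpace.yon_obj _) (IsAlgSpace.yon_obj _)
      (sqX.map (yon S)) (locP_smooth_yon_map _ inferInstance) h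
  have h2 : P ((yon S).map (pullback.snd k (hbe.1.fst' b') ≫ hbe.1.snd b')) := by
    rw [iff_schQ (P := P)]
    refine hP.schLocal.post _ _ (hbe.1.snd b').left ?_
    rw [CategoryTheory.Over.w (hbe.1.snd b')]
    exact (iff_schQ _).1 h1
  refine hP.descend (IsAlgSpace.yon_obj A) hY₀ (IsAlgSpace.yon_obj _) (IsAlgSpace.yon_obj B)
    (f' := (yon S).map (pullback.snd k (hbe.1.fst' b') ≫ hbe.1.snd b')) (g' := (yon S).map (pullback.fst _ _))
    ?_ ?_ (surjective_map_of_repWith hbs) h2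
  · rw [Functor.map_comp]
    exact (sqX.map (yon S)).paste_vert sqR
  · exact locP_mono (fun _ _ g (_ : Etale g) => (inferInstance : Smooth g)) (locP_of_repWith hY₀ hbe)

theorem exists_test_aux {X Y V W U XY : Sp S} (hX : IsAlgSpace X) (hY : IsAlgSpace Y) (hV : IsAlgSpace V)
    (hW : IsAlgSpace W) (hU : IsAlgSpace U) {f : X ⟶ Y} {b : V ⟶ Y} {p : W ⟶ X} {q : W ⟶ V}
    (sq : IsPullback p q f b) {e : U ⟶ W} (he : IsEtaleMor e) (v : Points U) (hh : P (e ≫ q))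
    {Ys V₀ X₀ : CategoryTheory.Over S} {b₀ : (yon S).obj Ys ⟶ Y}
    (c₀ : (yon S).obj V₀ ⟶ V) (hc₀e : RepWith @Etale c₀) (hc₀s : RepWith @Surjective c₀) (h₀ : V₀ ⟶ Ys)
    (wV : c₀ ≫ b = (yon S).map h₀ ≫ b₀) {r₁ : XY ⟶ X} {r₂ : XY ⟶ (yon S).obj Ys}
    (sqXY : IsPullback r₁ r₂ f b₀) (hXY : IsAlgSpace XY) {l : (yon S).obj X₀ ⟶ XY}
    (hle : RepWith @Etale l) (hls : RepWith @Surjective l) (k : X₀ ⟶ Ys) (hk : (yon S).map k = l ≫ r₂) :
    ∃ (N : CategoryTheory.Over S) (ν : N ⟶ pullback k h₀) (u : N.left), Etale ν.left ∧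
      P ((yon S).map (ν ≫ pullback.snd k h₀)) ∧
      Points.ofPt (l ≫ r₁) ((ν ≫ pullback.fst k h₀).left u) = Points.map (e ≫ p) v := by
  have hl : LocP @Etale l := locP_of_repWith hXY hle
  have sqW₀ := IsPullback.of_hasPullback q c₀
  have hW₀ := isAlgSpace_pullback hV hW (IsAlgSpace.yon_obj V₀) sqW₀
  have hπ : LocP @Etale (pullback.fst q c₀) := locP_of_repWith hW (repWith_of_isPullback sqW₀.flip hc₀e)
  obtain ⟨m, hm₁, hm₂⟩ : ∃ m : pullback q c₀ ⟶ XY, m ≫ r₁ = pullback.fst q c₀ ≫ p ∧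
      m ≫ r₂ = pullback.snd q c₀ ≫ (yon S).map h₀ :=
    ⟨sqXY.lift _ _ (by rw [Category.assoc, sq.w, reassoc_of% sqW₀.w, wV, Category.assoc]), sqXY.lift_fst _ _ _,
      sqXY.lift_snd _ _ _⟩
  have sqm : IsPullback m (pullback.snd q c₀) r₂ ((yon S).map h₀) :=
    IsPullback.of_right (h₁₁ := m) (by
      rw [hm₁, ← wV]
      exact sqW₀.paste_horiz sq) hm₂ sqXY
  have sqT := (IsPullback.of_hasPullback k h₀).map (yon S)
  obtain ⟨n, hn₁, hn₂⟩ : ∃ n : (yon S).obj (pullback k h₀) ⟶ pullback q c₀,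
      n ≫ m = (yon S).map (pullback.fst k h₀) ≫ l ∧ n ≫ pullback.snd q c₀ = (yon S).map (pullback.snd k h₀) :=
    ⟨sqm.lift _ _ (by rw [Category.assoc, ← hk, sqT.w]), sqm.lift_fst _ _ _, sqm.lift_snd _ _ _⟩
  have sqn : IsPullback ((yon S).map (pullback.fst k h₀)) n l m :=
    IsPullback.of_bot (by
      rw [← hk, hn₂]
      exact sqT) hn₁.symm sqm
  have hn : LocP @Etale n := locP_of_isPullback (IsAlgSpace.yon_obj X₀) hXY hW₀ sqn hl
  obtain ⟨τ, hτe⟩ : ∃ τ, τ = n ≫ pullback.fst q c₀ := ⟨_, rfl⟩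
  have hτ : LocP @Etale τ := hτe ▸ locP_comp (IsAlgSpace.yon_obj _) hW₀ hW hn hπ
  have sqN := IsPullback.of_hasPullback e τ
  have hE := isAlgSpace_pullback hW hU (IsAlgSpace.yon_obj _) sqN
  obtain ⟨N, t₀, ht₀e, ht₀s⟩ := hE.atlas
  obtain ⟨ν, hν⟩ := (yon S).map_surjective (t₀ ≫ pullback.snd e τ)
  have hE₁ : LocP @Etale (pullback.snd e τ) :=
    locP_of_isPullback hU hW (IsAlgSpace.yon_obj _) sqN (locP_etale_of_isEtaleMor he)
  have hE₂ : LocP @Etale (pullback.fst e τ) :=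
    locP_of_isPullback (IsAlgSpace.yon_obj _) hW hU sqN.flip hτ
  have ht₀ : LocP @Etale t₀ := locP_of_repWith hE ht₀e
  have hνe : Etale ν.left := (isEtaleMor_yon_map_iff ν).1 (by
    rw [hν]
    exact isEtaleMor_of_locP_etale (IsAlgSpace.yon_obj _) (IsAlgSpace.yon_obj _)
      (locP_comp (IsAlgSpace.yon_obj _) hE (IsAlgSpace.yon_obj _) ht₀ hE₁))
  have sqQ := IsPullback.of_hasPullback (e ≫ q) c₀
  have hU₀ := isAlgSpace_pullback hV hU (IsAlgSpace.yon_obj V₀) sqQ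
  have hQ₀ : P (pullback.snd (e ≫ q) c₀) :=
    hP.baseChange hU hV hU₀ (IsAlgSpace.yon_obj V₀) sqQ
      (locP_mono (fun _ _ g (_ : Etale g) => (inferInstance : Smooth g)) (locP_of_repWith hV hc₀e)) hh
  have hτq : τ ≫ q = (n ≫ pullback.snd q c₀) ≫ c₀ := by
    rw [hτe, Category.assoc, sqW₀.w, Category.assoc]
  obtain ⟨μ, hμ₁, hμ₂⟩ : ∃ μ : (yon S).obj N ⟶ pullback (e ≫ q) c₀,
      μ ≫ pullback.fst (e ≫ q) c₀ = t₀ ≫ pullback.fst e τ ∧
      μ ≫ pullback.snd (e ≫ q) c₀ = (yon S).map (ν ≫ pullback.snd k h₀) :=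
    ⟨sqQ.lift _ _ (by
      rw [Category.assoc, reassoc_of% sqN.w, Functor.map_comp, hν, ← hn₂, hτq]
      simp only [Category.assoc]), sqQ.lift_fst _ _ _, sqQ.lift_snd _ _ _⟩
  have hμ : LocP @Etale μ := locP_etale_of_comp (IsAlgSpace.yon_obj _) hU₀ hU (g := pullback.fst (e ≫ q) c₀)
    (by
      rw [hμ₁]
      exact locP_comp (IsAlgSpace.yon_obj _) hE hU ht₀ hE₂)
    (locP_of_repWith hU (repWith_of_isPullback sqQ.flip hc₀e))
  have hN : P ((yon S).map (ν ≫ pullback.snd k h₀)) := by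
    rw [← hμ₂]
    exact hP.precomp (IsAlgSpace.yon_obj _) hU₀ (IsAlgSpace.yon_obj V₀) _ _
      (isEtaleMor_of_locP_etale (IsAlgSpace.yon_obj _) hU₀ hμ) hQ₀
  obtain ⟨v₀, hv₀⟩ := surjective_map_of_repWith hc₀s (Points.map q (Points.map e v))
  obtain ⟨w₀, hw₀, -⟩ := exists_point_lift sqW₀ (Points.map e v) v₀ hv₀.symm
  obtain ⟨x₀, hx₀⟩ := surjective_map_of_repWith hls (Points.map m w₀)
  obtain ⟨z, hz₁, hz₂⟩ := exists_point_lift sqn x₀ w₀ hx₀
  obtain ⟨ω, -, hω⟩ := exists_point_lift sqN v z (by rw [hτe, Points.map_comp, hz₂, hw₀])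
  obtain ⟨ω', rfl⟩ := surjective_map_of_repWith ht₀s ω
  obtain ⟨u, rfl⟩ := exists_ofScheme ω'
  refine ⟨N, ν, u, hνe, hN, ?_⟩
  have hzu : z = Points.ofScheme _ (ν.left u) := by
    rw [← hω, ← Points.map_comp, ← hν, map_yon_ofScheme]
  have hpt : Points.ofScheme X₀ ((ν ≫ pullback.fst k h₀).left u) = x₀ := by
    rw [← hz₁, hzu, map_yon_ofScheme]
    rfl
  rw [Points.ofPt_eq_map_ofScheme, hpt, Points.map_comp, hx₀, ← Points.map_comp, hm₁, Points.map_comp, hw₀,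
    ← Points.map_comp]

/-- A scheme-level test for a point witnessed by a smooth base change and an étale map. -/
theorem exists_test {X Y V W U : Sp S} (hX : IsAlgSpace X) (hY : IsAlgSpace Y) (hV : IsAlgSpace V)
    (hW : IsAlgSpace W) (hU : IsAlgSpace U) {f : X ⟶ Y} {b : V ⟶ Y} (hb : LocP @Smooth b) {p : W ⟶ X} {q : W ⟶ V}
    (sq : IsPullback p q f b) {e : U ⟶ W} (he : IsEtaleMor e) (v : Points U) (hh : P (e ≫ q))
    {Ys : CategoryTheory.Over S} (b₀ : (yon S).obj Ys ⟶ Y) (hb₀ : RepWith @Etale b₀)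
    (hb₀s : RepWith @Surjective b₀) :
    ∃ (X₀ V₀ N : CategoryTheory.Over S) (a₀ : (yon S).obj X₀ ⟶ X) (k : X₀ ⟶ Ys) (h₀ : V₀ ⟶ Ys)
      (ν : N ⟶ pullback k h₀) (u : N.left),
      LocP @Etale a₀ ∧ a₀ ≫ f = (yon S).map k ≫ b₀ ∧ Smooth h₀.left ∧ Etale ν.left ∧
      P ((yon S).map (ν ≫ pullback.snd k h₀)) ∧
      Points.ofPt a₀ ((ν ≫ pullback.fst k h₀).left u) = Points.map (e ≫ p) v := by
  obtain ⟨V₀, c₀, h₀, hc₀e, hc₀s, wV⟩ := exists_chart_over hV hY b b₀ hb₀ hb₀s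
  have hh₀ : Smooth h₀.left := hb c₀ b₀ h₀ hc₀e hb₀ wV
  have sqXY := IsPullback.of_hasPullback f b₀
  have hXY := isAlgSpace_pullback hY hX (IsAlgSpace.yon_obj Ys) sqXY
  obtain ⟨X₀, l, hle, hls⟩ := hXY.atlas
  obtain ⟨k, hk⟩ := (yon S).map_surjective (l ≫ pullback.snd f b₀)
  have hfst : LocP @Etale (pullback.fst f b₀) := locP_of_repWith hX (repWith_of_isPullback sqXY.flip hb₀)
  have hl : LocP @Etale l := locP_of_repWith hXY hle
  refine ⟨X₀, V₀, ?_⟩
  obtain ⟨N, ν, u, h1, h2, h3⟩ := hP.exists_test_aux hX hY hV hW hU sq he v hh c₀ hc₀e hc₀s h₀ wV sqXY hXY hle hls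
    k hk
  refine ⟨N, l ≫ pullback.fst f b₀, k, h₀, ν, u, locP_comp (IsAlgSpace.yon_obj _) hXY hX hl hfst, ?_, hh₀, h1, h2,
    h3⟩
  rw [Category.assoc, sqXY.w, hk, Category.assoc]

/-- Slicing for schemes over `S`. -/
theorem exists_open_over {X₀ V₀ T N Ys : CategoryTheory.Over S} {k : X₀ ⟶ Ys} {h₀ : V₀ ⟶ Ys} {p : T ⟶ X₀}
    {q : T ⟶ V₀} (sq : IsPullback p q k h₀) (hh₀ : Smooth h₀.left) (ν : N ⟶ T) (hνe : Etale ν.left)
    (hN : P ((yon S).map (ν ≫ q))) (u : N.left) :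
    ∃ (X₁ : CategoryTheory.Over S) (j : X₁ ⟶ X₀), IsOpenImmersion j.left ∧
      (ν ≫ p).left u ∈ Set.range j.left ∧ P ((yon S).map (j ≫ k)) := by
  haveI := hh₀
  haveI := hνe
  have hq : SchQ P (h₀.left ≫ Ys.hom) (ν.left ≫ q.left) := by
    rw [CategoryTheory.Over.w h₀]
    exact (iff_schQ (ν ≫ q)).1 hN
  have sq' : IsPullback p.left q.left k.left h₀.left := sq.map (CategoryTheory.Over.forget S)
  have hs := hP.schLocal
  have hmain := @exists_open_of_chart S (fun {_} s {_} f => SchQ P s f) hs X₀.left Ys.left V₀.left T.left N.left Ys.hom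
    k.left h₀.left hh₀ p.left q.left sq' ν.left hνe
  obtain ⟨X₁, hmem, hX₁⟩ := hmain hq u
  refine ⟨CategoryTheory.Over.mk (X₁.ι ≫ X₀.hom), CategoryTheory.Over.homMk X₁.ι rfl,
    (inferInstance : IsOpenImmersion X₁.ι), ?_, (iff_schQ ((CategoryTheory.Over.homMk X₁.ι rfl : CategoryTheory.Over.mk (X₁.ι ≫ X₀.hom) ⟶ X₀) ≫ k)).2 hX₁⟩
  exact ⟨⟨_, hmem⟩, rfl⟩

/-- The criterion. -/
theorem isEtaleSmoothLocalST : IsEtaleSmoothLocalST P := by
  refine ⟨fun X Y Z hX hY hZ f g hf hg => hP.precomp hX hY hZ f g hf hg,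
    fun X Y X' Y' hX hY hX' hY' f g f' g' sq hg hf => hP.baseChange hX hY hX' hY' sq hg hf,
    fun X Y hX hY f => ⟨fun hf x => ?_, fun H => ?_⟩⟩
  · refine ⟨Y, X, X, 𝟙 Y, 𝟙 X, f, 𝟙 X, x, hY, hX, hX, locP_id hY, IsPullback.id_horiz f,
      isEtaleMor_of_locP_etale hX hX (locP_id hX), by simp, by rwa [Category.id_comp]⟩
  obtain ⟨Ys, b₀, hb₀, hb₀s⟩ := hY.atlas
  have key : ∀ x : Points X, ∃ (X₁ : CategoryTheory.Over S) (a : (yon S).obj X₁ ⟶ X), IsEtaleMor a ∧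
      x ∈ Set.range (Points.map a) ∧ P (a ≫ f) := by
    intro x
    obtain ⟨V, W, U, b, p, q, e, v, hV, hW, hU, hb, sq, he, hv, hh⟩ := H x
    obtain ⟨X₀, V₀, N, a₀, k, h₀, ν, u, ha₀, hw₀, hh₀, hνe, hN, hpt⟩ :=
      hP.exists_test hX hY hV hW hU hb sq he v hh b₀ hb₀ hb₀s
    obtain ⟨X₁, j, hj, ⟨z, hz⟩, hPj⟩ :=
      hP.exists_open_over (IsPullback.of_hasPullback k h₀) hh₀ ν hνe hN u
    refine ⟨X₁, (yon S).map j ≫ a₀, ?_, ?_, ?_⟩
    · exact isEtaleMor_of_locP_etale (IsAlgSpace.yon_obj _) hX (locP_comp (IsAlgSpace.yon_obj _)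
        (IsAlgSpace.yon_obj _) hX (locP_of_repWith (IsAlgSpace.yon_obj _) ((repWith_yon_map_iff _ _).2
          (inferInstance : Etale j.left))) ha₀)
    · refine ⟨Points.ofScheme _ z, ?_⟩
      rw [Points.map_comp, map_yon_ofScheme, ← Points.ofPt_eq_map_ofScheme, hz, hpt, hv]
    · rw [Category.assoc, hw₀, ← Functor.map_comp_assoc]
      exact hP.chart_post hY (j ≫ k) b₀ hb₀ hPj
  choose X₁ a ha hmem hPa using key
  obtain ⟨U₀, p₀, -, hs₀⟩ := hX.atlas
  exact (hP.source (fun z : U₀.left => (yon S).obj (X₁ (Points.ofPt p₀ z))) (fun z => a (Points.ofPt p₀ z)) hX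
    (fun z => IsAlgSpace.yon_obj _) ⟨fun z => ha _, fun x => by
      obtain ⟨z, rfl⟩ := surjective_ofPt hs₀ x
      exact ⟨z, hmem _⟩⟩ f hY).2 fun z => hPa _

end LocalHyp

end Groth.Agent.EtSmLoc15
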